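import Groth.Agent.GeomPtInt.Specialize
import Groth.Agent.S2530
import Groth.Agent.S4649
import Groth.Agent.GeomRedSpread.NearPoint
import Groth.Agent.GeomFib.Consequences
import Groth.Agent.GeomFib.OpenCriterion
import Groth.Agent.FlatSpread.Model
import Groth.Agent.FibDepth.GlobalSk
import Mathlib

/-!
# The locus of geometrically pointwise integral points of fibres
-/

set_option autoImplicit false
set_option linter.style.haveILetI false
set_option linter.unusedVariables false
set_option backward.isDefEq.respectTransparency false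
set_option backward.isDefEq.respectTransparency.types false

universe u

open CategoryTheory AlgebraicGeometry Limits TopologicalSpace IsLocalRing

namespace Groth.Agent.GeomPtInt

variable {X Y : Scheme.{u}}

/-- the points at which the fibre is geometrically pointwise integral -/
def gpiLocus (f : X ⟶ Y) : Set X := {x | GPI f x}

theorem geom_counts (f : X ⟶ Y) (y : Y) :
    MoreMor.nGeomIrredComp f y =
        (irreducibleComponents ↥(FBase.bc (f.fiberToSpecResidueField y) (AlgebraicClosure (IsLocalRing.ResidueField (Y.presheaf.stalk y))))).encard ∧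
      MoreMor.nGeomConnComp f y =
        ENat.card (_root_.ConnectedComponents
          ↥(FBase.bc (f.fiberToSpecResidueField y) (AlgebraicClosure (IsLocalRing.ResidueField (Y.presheaf.stalk y))))) := by
  let e := (pullbackLeftPullbackSndIso f (Y.fromSpecResidueField y)
    (Spec.map (CommRingCat.ofHom (algebraMap (IsLocalRing.ResidueField (Y.presheaf.stalk y)) (AlgebraicClosure (IsLocalRing.ResidueField (Y.presheaf.stalk y))))))).hom.homeomorph
  obtain ⟨h1, h2⟩ := GeomFib.nGeom_eq f (GeomFib.geomPt y) y (GeomFib.fromSpecResidueField_geomPt y)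
  exact ⟨h1.trans (GeomFib.encard_irreducibleComponents_congr e).symm,
    h2.trans (GeomFib.card_connectedComponents_congr e).symm⟩

/-- All points of a fibre are geometrically pointwise integral. -/
theorem forall_gpi_fibre_iff (f : X ⟶ Y) [LocallyOfFiniteType f] [QuasiCompact f] (y : Y) :
    (∀ x : X, f x = y → GPI f x) ↔
      GeometricallyReduced (f.fiberToSpecResidueField y) ∧
        ENat.toNat (MoreMor.nGeomIrredComp f y) = ENat.toNat (MoreMor.nGeomConnComp f y) := by
  haveI : LocallyOfFiniteType (f.fiberToSpecResidueField y) := MorphismProperty.pullback_snd _ _ inferInstance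
  haveI : QuasiCompact (f.fiberToSpecResidueField y) := MorphismProperty.pullback_snd _ _ inferInstance
  have h0 : (∀ x : X, f x = y → GPI f x) ↔
      ∀ z : ↥(f.fiber y), FBase.IsGeomPtIntegralAt (f.fiberToSpecResidueField y) z := by
    constructor
    · exact fun h z => (gpi_fibre_iff f y z).2 (h _ ((f.range_fiberι y).le ⟨z, rfl⟩))
    · intro h x hx
      obtain ⟨z, rfl⟩ := (f.range_fiberι y).ge (show x ∈ f ⁻¹' {y} from hx)
      exact (gpi_fibre_iff f y z).1 (h z)
  obtain ⟨h1, h2⟩ := geom_counts f y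
  rw [h0, S4649.result (Ω := AlgebraicClosure (IsLocalRing.ResidueField (Y.presheaf.stalk y))) (f.fiberToSpecResidueField y), h1, h2,
    ← Set.ncard_def, ← Nat.card_coe_set_eq]
  rfl

/-- Near a point of the locus, inside its closure, all points are in the locus. -/
theorem exists_open_closure [IsLocallyNoetherian Y] (f : X ⟶ Y) [LocallyOfFiniteType f] {η : X} (h : GPI f η) :
    ∃ O : X.Opens, η ∈ O ∧ ∀ z ∈ O, η ⤳ z → GPI f z := by
  let y := f.base η
  haveI : LocallyOfFiniteType (f.fiberToSpecResidueField y) := MorphismProperty.pullback_snd _ _ inferInstance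
  obtain ⟨O₁, hO₁, hO₁eq⟩ := (f.fiberι y).isEmbedding.isInducing.isOpen_iff.mp
    (S2530.result (f.fiberToSpecResidueField y))
  have hmem : ∀ x, f x = y → (x ∈ O₁ ↔ GPI f x) := fun x hx => by
    obtain ⟨z, rfl⟩ := (f.range_fiberι y).ge (show x ∈ f ⁻¹' {y} from hx)
    exact (Set.ext_iff.mp hO₁eq z).trans (gpi_fibre_iff f y z)
  obtain ⟨U, hU, hηU, hUO⟩ := exists_isAffineOpen_mem_and_subset (X := X) (x := η) (U := ⟨O₁, hO₁⟩) ((hmem η rfl).2 h)
  let g := U.ι ≫ f
  haveI : IsAffine (U : Scheme.{u}) := hU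
  haveI : QuasiCompact g := inferInstance
  have hy : ∀ u : (U : Scheme.{u}), g u = y → GPI g u := fun u hu => by
    rw [gpi_source_iff]
    have hu' : f (U.ι u) = y := by rw [← Scheme.Hom.comp_apply]; exact hu
    exact (hmem _ hu').1 (hUO u.2)
  obtain ⟨hGR, hcount⟩ := (forall_gpi_fibre_iff g y).1 hy
  obtain ⟨O₂, hy₂, hO₂⟩ := GeomRedSpread.exists_open_geometricallyReduced_iff g y
  obtain ⟨O₃, hy₃, hO₃⟩ := GeomFib.exists_open_nGeom g y
  refine ⟨U ⊓ f ⁻¹ᵁ (O₂ ⊓ O₃), ⟨hηU, hy₂, hy₃⟩, fun z ⟨hzU, hz₂, hz₃⟩ hs => ?_⟩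
  have hs' : y ⤳ f z := hs.map f.continuous
  have := (forall_gpi_fibre_iff g (f z)).2 ⟨(hO₂ _ hz₂ hs').2 hGR, by
    rw [(hO₃ _ hz₃ hs').1, (hO₃ _ hz₃ hs').2]; exact hcount⟩ (⟨z, hzU⟩ : (U : Scheme.{u})) rfl
  exact (gpi_source_iff f U.ι ⟨z, hzU⟩).1 this

theorem isOpen_gpiLocus_noetherian [IsLocallyNoetherian Y] (f : X ⟶ Y) [Flat f] [LocallyOfFinitePresentation f] :
    IsOpen (gpiLocus f) := by
  haveI : IsLocallyNoetherian X := LocallyOfFiniteType.isLocallyNoetherian f
  rw [isOpen_iff_mem_nhds]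
  exact fun x hx => GeomFib.mem_nhds_of_forall_generization fun η hη =>
    exists_open_closure f (gpi_of_specializes f hη hx)

theorem gpiLocus_preimage {X' Y' : Scheme.{u}} {f : X ⟶ Y} {f' : X' ⟶ Y'} {g' : X' ⟶ X} {g : Y' ⟶ Y}
    (h : IsPullback g' f' f g) : gpiLocus f' = g' ⁻¹' gpiLocus f :=
  Set.ext fun x' => gpi_baseChange_iff h x'

theorem gpiLocus_comp {W : Scheme.{u}} (j : W ⟶ X) [IsOpenImmersion j] (f : X ⟶ Y) :
    gpiLocus (j ≫ f) = j ⁻¹' gpiLocus f :=
  Set.ext fun w => gpi_source_iff f j w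

/-- **Openness for flat morphisms of finite presentation.** -/
theorem isOpen_gpiLocus (f : X ⟶ Y) [Flat f] [LocallyOfFinitePresentation f] : IsOpen (gpiLocus f) := by
  rw [isOpen_iff_forall_mem_open]
  intro x hx
  obtain ⟨V, hV, hxV, -⟩ := exists_isAffineOpen_mem_and_subset (U := (⊤ : Y.Opens)) (x := f x) trivial
  obtain ⟨W, hW, hxW, hWV⟩ := exists_isAffineOpen_mem_and_subset (U := f ⁻¹ᵁ V) (x := x) hxV
  let φ := f.appLE V W hWV
  have hfp : φ.hom.FinitePresentation := LocallyOfFinitePresentation.finitePresentation_appLE f hV hW hWV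
  have hfl : φ.hom.Flat := Flat.flat_appLE f hV hW hWV
  algebraize [φ.hom]
  obtain ⟨R₀, _, _, S₀, _, _, _, _, _, _, hR₀, hS₀, hflat₀, hpush⟩ :=
    FlatSpread.exists_model_algebra Γ(Y, V) Γ(X, W)
  haveI : IsNoetherianRing R₀ := Algebra.FiniteType.isNoetherianRing ℤ R₀
  let f₀ : Spec (CommRingCat.of S₀) ⟶ Spec (CommRingCat.of R₀) := Spec.map (CommRingCat.ofHom (algebraMap R₀ S₀))
  haveI : Flat f₀ := (HasRingHomProperty.Spec_iff (P := @Flat)).mpr (RingHom.flat_algebraMap_iff.2 hflat₀)
  haveI : LocallyOfFiniteType f₀ := (HasRingHomProperty.Spec_iff (P := @LocallyOfFiniteType)).mpr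
    (RingHom.finiteType_algebraMap.2 hS₀)
  haveI : LocallyOfFinitePresentation f₀ := LocallyOfFinitePresentation.iff_locallyOfFiniteType.2 inferInstance
  haveI : IsLocallyNoetherian (Spec (CommRingCat.of R₀)) := inferInstance
  have sq : IsPullback (Spec.map (CommRingCat.ofHom (algebraMap S₀ Γ(X, W)))) (Spec.map φ) f₀
      (Spec.map (CommRingCat.ofHom (algebraMap R₀ Γ(Y, V)))) := by
    have h := (CommRingCat.isPushout_iff_isPushout (R := R₀) (S := Γ(Y, V)) (R' := S₀) (S' := Γ(X, W))).mpr hpush.symm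
    have h' := isPullback_SpecMap_of_isPushout _ _ _ _ h
    first
      | exact h'
      | exact h'.flip
  have hopen : IsOpen (gpiLocus (Spec.map φ)) := by
    rw [gpiLocus_preimage sq]
    exact (isOpen_gpiLocus_noetherian f₀).preimage (Scheme.Hom.continuous _)
  have heq : gpiLocus (Spec.map φ) = hW.fromSpec ⁻¹' gpiLocus f := by
    ext q
    show GPI (Spec.map φ) q ↔ GPI f (hW.fromSpec q)
    rw [← gpi_source_iff f hW.fromSpec q, ← IsAffineOpen.SpecMap_appLE_fromSpec f hV hW hWV]
    exact (gpi_target_iff (Spec.map φ) hV.fromSpec q).symm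
  obtain ⟨q, rfl⟩ : x ∈ Set.range hW.fromSpec := hW.range_fromSpec.ge hxW
  refine ⟨hW.fromSpec '' gpiLocus (Spec.map φ), ?_, hW.fromSpec.isOpenEmbedding.isOpenMap _ hopen, ⟨q, ?_, rfl⟩⟩
  · rw [heq]
    exact Set.image_preimage_subset _ _
  · rw [heq]
    exact hx

theorem isFibreLocus_gpi : FibDepth.IsFibreLocus.{u} @gpiLocus where
  preimage h := gpiLocus_preimage h
  comp_openImmersion j _ f _ := gpiLocus_comp j f
  isOpen_of_flat f _ _ := isOpen_gpiLocus f

theorem isLocallyConstructible_gpiLocus (f : X ⟶ Y) [LocallyOfFinitePresentation f] :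
    Topology.IsLocallyConstructible (gpiLocus f) :=
  isFibreLocus_gpi.isLocallyConstructible f

/-- A fibre with pointwise integral geometric fibre is geometrically integral iff geometrically connected. -/
theorem geometricallyIntegral_fibre_iff (f : X ⟶ Y) [LocallyOfFiniteType f] [QuasiCompact f] (y : Y) :
    GeometricallyIntegral (f.fiberToSpecResidueField y) ↔
      (∀ x : X, f x = y → GPI f x) ∧ MoreMor.nGeomConnComp f y = 1 := by
  constructor
  · intro h
    have h' : GeometricallyConnected (f.fiberToSpecResidueField y) := by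
      rw [GeometricallyConnected.eq_geometrically]
      intro K _ v Z fst snd hZ
      haveI := h.geometrically_isIntegral v fst snd hZ
      infer_instance
    have hc := (GeomFib.geometricallyConnected_fiber_iff f y).1 h'
    refine ⟨(forall_gpi_fibre_iff f y).2 ⟨inferInstance, ?_⟩, hc⟩
    rw [hc, (GeomFib.geometricallyIrreducible_fiber_iff f y).1 inferInstance]
  · rintro ⟨h, hc⟩
    obtain ⟨hGR, hcount⟩ := (forall_gpi_fibre_iff f y).1 h
    have hi : MoreMor.nGeomIrredComp f y = 1 := by
      rw [hc, show ENat.toNat 1 = 1 from rfl] at hcount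
      exact (ENat.toNat_eq_iff one_ne_zero).1 hcount
    haveI := (GeomFib.geometricallyIrreducible_fiber_iff f y).2 hi
    exact GeometricallyIntegral.of_geometricallyReduced_of_geometricallyIrreducible _

end Groth.Agent.GeomPtInt
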