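import Groth.Agent.GeomPtInt.Open
import Groth.Agent.S3410
import Groth.Agent.S9812
import Groth.Agent.DvrDom.Scheme
import Groth.Agent.FibDepth.FibreLocus
import Mathlib

/-!
# Geometric pointwise integrality is stable under generisation for flat morphisms
-/

set_option autoImplicit false
set_option linter.style.haveILetI false
set_option backward.isDefEq.respectTransparency false
set_option backward.isDefEq.respectTransparency.types false

universe u

open CategoryTheory AlgebraicGeometry Limits TopologicalSpace TensorProduct IsLocalRing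

namespace Groth.Agent.GeomPtInt

variable {X Y : Scheme.{u}}

/-- The condition on the fibre is the global one. -/
theorem isGeomPtIntegralAt_fibre_iff (f : X ⟶ Y) (x : X) :
    FBase.IsGeomPtIntegralAt (f.fiberToSpecResidueField (f.base x)) (f.asFiber x) ↔ GPI f x := by
  refine (isGeomPtIntegralAt_iff _ _).trans ?_
  have h := gpi_baseChange_iff (IsPullback.of_hasPullback f (Y.fromSpecResidueField (f.base x))) (f.asFiber x)
  rw [show pullback.fst f (Y.fromSpecResidueField (f.base x)) (f.asFiber x) = x from f.fiberι_asFiber x] at h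
  exact h

theorem gpi_fibre_iff (f : X ⟶ Y) (y : Y) (z : ↥(f.fiber y)) :
    FBase.IsGeomPtIntegralAt (f.fiberToSpecResidueField y) z ↔ GPI f (f.fiberι y z) :=
  (isGeomPtIntegralAt_iff _ _).trans (gpi_baseChange_iff (IsPullback.of_hasPullback f (Y.fromSpecResidueField y)) z)

/-- Domain stalks pass to generisations. -/
theorem isDomain_stalk_of_specializes {P : Scheme.{u}} {p q : P} (h : p ⤳ q)
    [IsDomain (P.presheaf.stalk q)] : IsDomain (P.presheaf.stalk p) := by
  obtain ⟨U, hU, hqU, -⟩ := exists_isAffineOpen_mem_and_subset (X := P) (x := q) (U := ⊤) trivial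
  have hpU : p ∈ U := h.mem_open U.2 hqU
  obtain ⟨a, rfl⟩ : p ∈ Set.range hU.fromSpec := hU.range_fromSpec.ge hpU
  obtain ⟨b, rfl⟩ : q ∈ Set.range hU.fromSpec := hU.range_fromSpec.ge hqU
  haveI hb := (isDomain_fromSpec_iff hU b).1 ‹_›
  refine (isDomain_fromSpec_iff hU a).2 ?_
  have hle : a.asIdeal ≤ b.asIdeal :=
    (PrimeSpectrum.le_iff_specializes a b).2 (hU.fromSpec.isOpenEmbedding.isInducing.specializes_iff.1 h)
  haveI : NoZeroDivisors (Localization.AtPrime a.asIdeal) := ⟨fun {x y} hxy => by
    obtain ⟨⟨z, c⟩, hz⟩ := IsLocalization.surj a.asIdeal.primeCompl x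
    obtain ⟨⟨w, d⟩, hw⟩ := IsLocalization.surj a.asIdeal.primeCompl y
    have h0 : algebraMap _ (Localization.AtPrime a.asIdeal) (z * w) = 0 := by
      rw [map_mul, ← hz, ← hw, mul_mul_mul_comm, hxy, zero_mul]
    obtain ⟨⟨e, he⟩, hezw⟩ := (IsLocalization.map_eq_zero_iff a.asIdeal.primeCompl _ _).1 h0
    have h1 : algebraMap _ (Localization.AtPrime b.asIdeal) (e * z) *
        algebraMap _ (Localization.AtPrime b.asIdeal) w = 0 := by rw [← map_mul, mul_assoc, hezw, map_zero]
    rcases mul_eq_zero.1 h1 with h2 | h2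
    · obtain ⟨⟨t, ht⟩, htz⟩ := (IsLocalization.map_eq_zero_iff b.asIdeal.primeCompl _ _).1 h2
      left
      have : algebraMap _ (Localization.AtPrime a.asIdeal) z = 0 :=
        (IsLocalization.map_eq_zero_iff a.asIdeal.primeCompl _ _).2
          ⟨⟨t * e, a.asIdeal.primeCompl.mul_mem (fun hta => ht (hle hta)) he⟩, by rw [mul_assoc]; exact htz⟩
      rw [← hz] at this
      exact (IsUnit.mul_left_eq_zero (IsLocalization.map_units _ c)).1 this
    · obtain ⟨⟨t, ht⟩, htw⟩ := (IsLocalization.map_eq_zero_iff b.asIdeal.primeCompl _ _).1 h2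
      right
      have : algebraMap _ (Localization.AtPrime a.asIdeal) w = 0 :=
        (IsLocalization.map_eq_zero_iff a.asIdeal.primeCompl _ _).2 ⟨⟨t, fun hta => ht (hle hta)⟩, htw⟩
      rw [← hw] at this
      exact (IsUnit.mul_left_eq_zero (IsLocalization.map_units _ d)).1 this⟩
  exact NoZeroDivisors.to_isDomain _

/-- A discrete valuation ring through a specialisation, with prescribed field. -/
theorem exists_dvr_field [IsLocallyNoetherian X] {x₁ x₀ : X} (h : x₁ ⤳ x₀) (hne : x₀ ≠ x₁) {L : Type u} [Field L]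
    (ψ : X.residueField x₁ ⟶ CommRingCat.of L) (hψ : ψ.hom.EssFiniteType) :
    ∃ (R : ValuationSubring L) (g : Spec (CommRingCat.of R) ⟶ X), IsDiscreteValuationRing R ∧
      g (closedPoint R) = x₀ ∧
      Spec.map (CommRingCat.ofHom R.subtype) ≫ g = Spec.map ψ ≫ X.fromSpecResidueField x₁ := by
  let φ : X.presheaf.stalk x₀ ⟶ CommRingCat.of L := X.presheaf.stalkSpecializes h ≫ X.residue x₁ ≫ ψ
  obtain ⟨a, ha, hane⟩ : ∃ a ∈ maximalIdeal (X.presheaf.stalk x₀), φ.hom a ≠ 0 := by
    by_contra hc
    push Not at hc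
    refine hne (DvrDom.eq_of_stalkSpecializes_maximalIdeal h fun a ha hu ↦ ?_)
    exact ((hu.map (X.residue x₁).hom).map ψ.hom).ne_zero (hc a ha)
  have hφ : φ.hom.EssFiniteType := by
    simp only [φ, CommRingCat.hom_comp]
    exact RingHom.EssFiniteType.comp (DvrDom.essFiniteType_stalkSpecializes h)
      (RingHom.EssFiniteType.comp (RingHom.FiniteType.of_surjective _ residue_surjective).essFiniteType hψ)
  obtain ⟨R, hR, hmem, hm⟩ := DvrDom.exists_dvr_dominating_hom _ φ.hom hφ ha hane
  refine ⟨R, Spec.map (CommRingCat.ofHom (φ.hom.codRestrict R.toSubring hmem)) ≫ X.fromSpecStalk x₀, hR,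
    DvrDom.specMap_fromSpecStalk_closedPoint R x₀ _ hmem hm, ?_⟩
  rw [Scheme.fromSpecResidueField, ← Scheme.SpecMap_stalkSpecializes_fromSpecStalk h]
  simp_rw [← Spec.map_comp_assoc]
  rfl

/-- Finite extensions lift specialisations of integral points. -/
theorem isDomain_of_specializes (f : X ⟶ Y) [IsLocallyNoetherian X] [Flat f] [LocallyOfFinitePresentation f]
    {K : Type u} [Field K] {v : Spec (CommRingCat.of K) ⟶ Y} {P₀ : Scheme.{u}} {a : P₀ ⟶ X}
    {b : P₀ ⟶ Spec (CommRingCat.of K)} (sq : IsPullback a b f v) (p : P₀)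
    (hess : (a.residueFieldMap p).hom.EssFiniteType) {x₀ : X} (hs : a p ⤳ x₀) (h : GPI f x₀) :
    IsDomain (P₀.presheaf.stalk p) := by
  by_cases hne : x₀ = a p
  · subst hne
    have hp : pullback.fst f v (sq.isoPullback.hom p) = a p := by
      rw [← Scheme.Hom.comp_apply, sq.isoPullback_hom_fst]
    exact (isDomain_stalk_openImmersion_iff sq.isoPullback.hom p).1 (h K v _ hp)
  let L := P₀.residueField p
  obtain ⟨R, g, hR, hg, hgL⟩ := exists_dvr_field hs hne (L := (L : Type u)) (a.residueFieldMap p) hess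
  -- the base change to the valuation ring
  let vR := g ≫ f
  let P := pullback f vR
  let σ : Spec (CommRingCat.of R) ⟶ P := pullback.lift g (𝟙 _) (by rw [Category.id_comp])
  let p₀ := σ (closedPoint R)
  have hp₀ : pullback.fst f vR p₀ = x₀ := by
    rw [← Scheme.Hom.comp_apply, pullback.lift_fst]
    exact hg
  haveI : LocallyOfFiniteType (pullback.snd f vR) := MorphismProperty.pullback_snd _ _ inferInstance
  haveI : Flat (pullback.snd f vR) := MorphismProperty.pullback_snd _ _ inferInstance
  haveI : LocallyOfFinitePresentation (pullback.snd f vR) := MorphismProperty.pullback_snd _ _ inferInstance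
  haveI : IsLocallyNoetherian (Spec (CommRingCat.of R)) := inferInstance
  have hgpi : GPI (pullback.snd f vR) p₀ :=
    (gpi_baseChange_iff (IsPullback.of_hasPullback f vR) p₀).2 (by rw [hp₀]; exact h)
  have hunr : CAlg2.IsGeomUnibranch
      ((Spec (CommRingCat.of R)).presheaf.stalk ((pullback.snd f vR).base p₀)) := by
    let s := (pullback.snd f vR).base p₀
    let e := (Spec.stalkIso (CommRingCat.of R) s).commRingCatIsoToRingEquiv
    haveI : IsDomain ((Spec (CommRingCat.of R)).presheaf.stalk s) := e.toMulEquiv.isDomain_iff.2 inferInstance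
    haveI : IsIntegrallyClosed ((Spec (CommRingCat.of R)).presheaf.stalk s) := IsIntegrallyClosed.of_equiv e.symm
    exact S9812.result _
  haveI hdom₀ : IsDomain (P.presheaf.stalk p₀) := by
    refine ((S3410.result (pullback.snd f vR) p₀ (fun z _ _ => ?_)
      ((isGeomPtIntegralAt_fibre_iff _ _).2 hgpi) hunr).2 ?_).1
    · intro Y' g' x' _
      haveI : UniversallyOpen (pullback.snd f vR) := inferInstance
      haveI : UniversallyOpen (pullback.snd (pullback.snd f vR) g') := MorphismProperty.pullback_snd _ _ inferInstance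
      exact fun W hW => (pullback.snd (pullback.snd f vR) g').isOpenMap.image_mem_nhds hW
    · let s := (pullback.snd f vR).base p₀
      exact (Spec.stalkIso (CommRingCat.of R) s).commRingCatIsoToRingEquiv.toMulEquiv.isDomain_iff.2 inferInstance
  -- the generic point of the valuation ring
  let i : Spec (CommRingCat.of L) ⟶ Spec (CommRingCat.of R) := Spec.map (CommRingCat.ofHom R.subtype)
  haveI : IsPreimmersion i := IsPreimmersion.of_isLocalization (nonZeroDivisors R)
  let vL := i ≫ vR
  let m : pullback f vL ⟶ P := pullback.map f vL f vR (𝟙 _) i (𝟙 _) (by simp) (by simp [vL])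
  have hm : IsPullback m (pullback.snd f vL) (pullback.snd f vR) i :=
    IsPullback.of_right (by rw [pullback.lift_fst, Category.comp_id]; exact IsPullback.of_hasPullback f vL)
      (pullback.lift_snd _ _ _) (IsPullback.of_hasPullback f vR)
  haveI : IsPreimmersion m := MorphismProperty.of_isPullback hm.flip ‹_›
  haveI : Flat i := by
    refine (HasRingHomProperty.Spec_iff (P := @Flat)).mpr ?_
    show (algebraMap R L).Flat
    rw [RingHom.flat_algebraMap_iff]
    exact IsLocalization.flat L (nonZeroDivisors R)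
  haveI : Flat m := MorphismProperty.of_isPullback hm.flip ‹_›
  let σL : Spec (CommRingCat.of L) ⟶ pullback f vL := pullback.lift (i ≫ g) (𝟙 _) (by
    rw [Category.id_comp, Category.assoc])
  let pL := σL (closedPoint L)
  have hσ : σL ≫ m = i ≫ σ := by
    apply pullback.hom_ext
    · rw [Category.assoc, Category.assoc, pullback.lift_fst, pullback.lift_fst, Category.comp_id, pullback.lift_fst]
    · rw [Category.assoc, Category.assoc, pullback.lift_snd, pullback.lift_snd, pullback.lift_snd_assoc,
        Category.id_comp, Category.comp_id]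
  have hspec : m pL ⤳ p₀ := by
    rw [← Scheme.Hom.comp_apply, hσ, Scheme.Hom.comp_apply]
    exact (IsLocalRing.specializes_closedPoint (i (closedPoint L))).map σ.continuous
  haveI hm' : IsDomain (P.presheaf.stalk (m pL)) := isDomain_stalk_of_specializes hspec
  haveI hpL : IsDomain ((pullback f vL).presheaf.stalk pL) := by
    have hinj : Function.Injective (m.stalkMap pL).hom := by
      algebraize [(m.stalkMap pL).hom]
      have : Module.FaithfullyFlat (P.presheaf.stalk (m pL)) ((pullback f vL).presheaf.stalk pL) :=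
        @Module.FaithfullyFlat.of_flat_of_isLocalHom _ _ _ _ _ _ _
          (Flat.stalkMap m pL) (m.toLRSHom.prop pL)
      exact FaithfulSMul.algebraMap_injective _ _
    exact (RingEquiv.ofBijective _ ⟨hinj, m.stalkMap_surjective pL⟩).toMulEquiv.isDomain_iff.1 hm'
  -- descend to the given point
  let k : Spec (CommRingCat.of L) ⟶ Spec (CommRingCat.of K) := P₀.fromSpecResidueField p ≫ b
  have hig : i ≫ g = P₀.fromSpecResidueField p ≫ a := by
    rw [hgL, Scheme.Hom.SpecMap_residueFieldMap_fromSpecResidueField]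
  have hvk : vL = k ≫ v := by
    simp only [vL, vR, k, Category.assoc]
    rw [reassoc_of% hig, ← sq.w]
  let m₀ : pullback f vL ⟶ P₀ := sq.lift (pullback.fst f vL) (pullback.snd f vL ≫ k) (by
    rw [Category.assoc, ← hvk]; exact pullback.condition)
  have hm₀ : IsPullback m₀ (pullback.snd f vL) b k :=
    IsPullback.of_right (by rw [sq.lift_fst, ← hvk]; exact IsPullback.of_hasPullback f vL)
      (sq.lift_snd _ _ _) sq
  haveI : Flat k := by
    obtain ⟨φ, hφ⟩ := Spec.map_surjective k
    rw [← hφ]
    exact (FlatMor.flat_surjective_spec_field_hom φ.hom).1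
  haveI : Flat m₀ := MorphismProperty.of_isPullback hm₀.flip ‹Flat k›
  have hmp : m₀ pL = p := by
    have : σL ≫ m₀ = P₀.fromSpecResidueField p := by
      refine sq.hom_ext ?_ ?_
      · rw [Category.assoc, sq.lift_fst, pullback.lift_fst, hig]
      · rw [Category.assoc, sq.lift_snd, pullback.lift_snd_assoc, Category.id_comp]
    rw [← Scheme.Hom.comp_apply, this]
    exact Scheme.fromSpecResidueField_apply p _
  rw [← hmp]
  exact isDomain_stalk_of_flat m₀ pL

/-- A zero product in a localisation comes from a stage with a domain localisation. -/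
theorem zero_or_zero_of_comap {C D : Type u} [CommRing C] [CommRing D] (g : C →+* D) (P : Ideal D) [P.IsPrime]
    (hg : Function.Injective g) (hC : IsDomain (Localization.AtPrime (P.comap g))) {z w e : C} (he : g e ∉ P)
    (h : g e * (g z * g w) = 0) :
    algebraMap D (Localization.AtPrime P) (g z) = 0 ∨ algebraMap D (Localization.AtPrime P) (g w) = 0 := by
  have h1 : algebraMap C (Localization.AtPrime (P.comap g)) (e * z) *
      algebraMap C (Localization.AtPrime (P.comap g)) w = 0 := by
    rw [← map_mul, mul_assoc, show e * (z * w) = 0 from hg (by rw [map_mul, map_mul, h, map_zero]), map_zero]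
  rcases mul_eq_zero.1 h1 with h2 | h2
  · obtain ⟨⟨t, ht⟩, htz⟩ := (IsLocalization.map_eq_zero_iff (P.comap g).primeCompl _ _).1 h2
    exact Or.inl ((IsLocalization.map_eq_zero_iff P.primeCompl _ _).2 ⟨⟨g t * g e, P.primeCompl.mul_mem ht he⟩, by
      show g t * g e * g z = 0
      rw [← map_mul, ← map_mul, mul_assoc, htz, map_zero]⟩)
  · obtain ⟨⟨t, ht⟩, htw⟩ := (IsLocalization.map_eq_zero_iff (P.comap g).primeCompl _ _).1 h2
    exact Or.inr ((IsLocalization.map_eq_zero_iff P.primeCompl _ _).2 ⟨⟨g t, ht⟩, by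
      rw [← map_mul, htw, map_zero]⟩)

set_option maxHeartbeats 1000000 in
/-- Domains at all finite stages give a domain in the limit. -/
theorem isDomain_of_finite_stages {k B Ω : Type u} [Field k] [CommRing B] [Algebra k B] [Field Ω] [Algebra k Ω]
    [Algebra.IsIntegral k Ω] (P : Ideal (B ⊗[k] Ω)) [P.IsPrime]
    (h : ∀ (K : Type u) [Field K] [Algebra k K] (σ : K →ₐ[k] Ω), FiniteDimensional k K →
      IsDomain (Localization.AtPrime (P.comap (Algebra.TensorProduct.map (AlgHom.id k B) σ).toRingHom))) :
    IsDomain (Localization.AtPrime P) := by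
  classical
  let ι : ∀ F : IntermediateField k Ω, B ⊗[k] F →ₐ[k] B ⊗[k] Ω := fun F =>
    Algebra.TensorProduct.map (AlgHom.id k B) F.val
  have hmono : ∀ {F F' : IntermediateField k Ω}, F ≤ F' → Set.range (ι F) ⊆ Set.range (ι F') := by
    rintro F F' hle _ ⟨x, rfl⟩
    refine ⟨Algebra.TensorProduct.map (AlgHom.id k B) (IntermediateField.inclusion hle) x, ?_⟩
    induction x using TensorProduct.induction_on with
    | zero => simp
    | tmul b c => simp [ι]
    | add y z hy hz => rw [map_add, map_add, hy, hz, map_add]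
  have hex : ∀ x : B ⊗[k] Ω, ∃ F : IntermediateField k Ω, FiniteDimensional k F ∧ x ∈ Set.range (ι F) := by
    intro x
    induction x using TensorProduct.induction_on with
    | zero => exact ⟨⊥, inferInstance, 0, map_zero _⟩
    | tmul b c =>
      exact ⟨IntermediateField.adjoin k {c},
        IntermediateField.adjoin.finiteDimensional (Algebra.IsIntegral.isIntegral c),
        b ⊗ₜ ⟨c, IntermediateField.subset_adjoin k _ rfl⟩, by simp [ι]⟩
    | add y z hy hz =>
      obtain ⟨F₁, h₁, y', rfl⟩ := hy
      obtain ⟨F₂, h₂, z', rfl⟩ := hz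
      haveI := h₁; haveI := h₂
      obtain ⟨y'', hy''⟩ := hmono le_sup_left (F' := F₁ ⊔ F₂) ⟨y', rfl⟩
      obtain ⟨z'', hz''⟩ := hmono le_sup_right (F' := F₁ ⊔ F₂) ⟨z', rfl⟩
      exact ⟨F₁ ⊔ F₂, inferInstance, y'' + z'', by rw [map_add, hy'', hz'']⟩
  have key : ∀ (K : Type u) [Field K] [Algebra k K] (σ : K →ₐ[k] Ω), FiniteDimensional k K →
      ∀ z w e : B ⊗[k] K, Algebra.TensorProduct.map (AlgHom.id k B) σ e ∉ P →
      Algebra.TensorProduct.map (AlgHom.id k B) σ e * (Algebra.TensorProduct.map (AlgHom.id k B) σ z *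
        Algebra.TensorProduct.map (AlgHom.id k B) σ w) = 0 →
      algebraMap _ (Localization.AtPrime P) (Algebra.TensorProduct.map (AlgHom.id k B) σ z) = 0 ∨
        algebraMap _ (Localization.AtPrime P) (Algebra.TensorProduct.map (AlgHom.id k B) σ w) = 0 :=
    fun K _ _ σ hK z w e he h0 =>
      zero_or_zero_of_comap (Algebra.TensorProduct.map (AlgHom.id k B) σ).toRingHom P
        (Module.Flat.lTensor_preserves_injective_linearMap (M := B) σ.toLinearMap σ.toRingHom.injective)
        (h K σ hK) he h0
  haveI : NoZeroDivisors (Localization.AtPrime P) := ⟨fun {x y} hxy => by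
    obtain ⟨⟨z, c⟩, hz⟩ := IsLocalization.surj P.primeCompl x
    obtain ⟨⟨w, d⟩, hw⟩ := IsLocalization.surj P.primeCompl y
    have h0 : algebraMap _ (Localization.AtPrime P) (z * w) = 0 := by
      rw [map_mul, ← hz, ← hw, mul_mul_mul_comm, hxy, zero_mul]
    obtain ⟨⟨e, he⟩, hezw⟩ := (IsLocalization.map_eq_zero_iff P.primeCompl _ _).1 h0
    obtain ⟨F₁, h₁, hz₁⟩ := hex z
    obtain ⟨F₂, h₂, hw₂⟩ := hex w
    obtain ⟨F₃, h₃, he₃⟩ := hex e
    haveI := h₁; haveI := h₂; haveI := h₃
    let F := F₁ ⊔ F₂ ⊔ F₃
    haveI : FiniteDimensional k F := inferInstance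
    obtain ⟨z', rfl⟩ := hmono (le_sup_left.trans le_sup_left : F₁ ≤ F) hz₁
    obtain ⟨w', rfl⟩ := hmono (le_sup_right.trans le_sup_left : F₂ ≤ F) hw₂
    obtain ⟨e', rfl⟩ := hmono (le_sup_right : F₃ ≤ F) he₃
    rcases key F F.val inferInstance z' w' e' he hezw with h2 | h2
    · left
      have h3 : algebraMap _ (Localization.AtPrime P) (ι F z') = 0 := h2
      rw [← hz] at h3
      exact (IsUnit.mul_left_eq_zero (IsLocalization.map_units _ c)).1 h3
    · right
      have h3 : algebraMap _ (Localization.AtPrime P) (ι F w') = 0 := h2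
      rw [← hw] at h3
      exact (IsUnit.mul_left_eq_zero (IsLocalization.map_units _ d)).1 h3⟩
  exact NoZeroDivisors.to_isDomain _

/-- Geometric pointwise integrality can be tested on finite extensions. -/
theorem gpi_of_finite {k : Type u} [Field k] (f : X ⟶ Spec (CommRingCat.of k)) [LocallyOfFiniteType f] (x : X)
    (h : ∀ (K : Type u) [Field K] [Algebra k K], FiniteDimensional k K →
      ∀ p : ↥(pullback f (Spec.map (CommRingCat.ofHom (algebraMap k K)))),
        pullback.fst f _ p = x → IsDomain ((pullback f (Spec.map (CommRingCat.ofHom (algebraMap k K)))).presheaf.stalk p)) :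
    GPI f x := by
  obtain ⟨U, hU, hxU, -⟩ := exists_isAffineOpen_mem_and_subset (X := X) (x := x) (U := ⊤) trivial
  obtain ⟨q, rfl⟩ : x ∈ Set.range hU.fromSpec := hU.range_fromSpec.ge hxU
  obtain ⟨φ, hφ⟩ := Spec.map_surjective (hU.fromSpec ≫ f)
  letI : Algebra k Γ(X, U) := φ.hom.toAlgebra
  rw [← gpi_source_iff f hU.fromSpec q, ← hφ]
  let B : Type u := Γ(X, U)
  let fB : Spec (CommRingCat.of B) ⟶ Spec (CommRingCat.of k) := Spec.map (CommRingCat.ofHom (algebraMap k B))
  show GPI fB q
  let Ω := AlgebraicClosure k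
  let v : Spec (CommRingCat.of Ω) ⟶ Spec (CommRingCat.of k) := Spec.map (CommRingCat.ofHom (algebraMap k Ω))
  haveI : Surjective v := (FlatMor.flat_surjective_spec_field_hom (algebraMap k Ω)).2
  obtain ⟨p, hp⟩ := (pullback.fst fB v).surjective q
  rw [← hp]
  refine (gpi_baseChange_iff (IsPullback.of_hasPullback fB v) p).1 (gpi_of_isDomain _ p ?_)
  let e := pullbackSpecIso k B Ω
  let s : PrimeSpectrum (B ⊗[k] Ω) := e.hom p
  have hsp : e.inv s = p := by
    show e.inv (e.hom p) = p
    rw [← Scheme.Hom.comp_apply, Iso.hom_inv_id]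
    rfl
  have hloc : ∀ (K : Type u) [Field K] [Algebra k K] (r : PrimeSpectrum (B ⊗[k] K)),
      IsDomain ((pullback fB (Spec.map (CommRingCat.ofHom (algebraMap k K)))).presheaf.stalk
        ((pullbackSpecIso k B K).inv r)) ↔ IsDomain (Localization.AtPrime r.asIdeal) := fun K _ _ r => by
    rw [isDomain_stalk_openImmersion_iff (pullbackSpecIso k B K).inv r]
    exact (Spec.stalkIso (CommRingCat.of (B ⊗[k] K)) r).commRingCatIsoToRingEquiv.toMulEquiv.isDomain_iff
  have hfst : ∀ (K : Type u) [Field K] [Algebra k K] (r : PrimeSpectrum (B ⊗[k] K)),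
      pullback.fst fB (Spec.map (CommRingCat.ofHom (algebraMap k K))) ((pullbackSpecIso k B K).inv r) =
        PrimeSpectrum.comap (algebraMap B (B ⊗[k] K)) r := fun K _ _ r => by
    rw [← Scheme.Hom.comp_apply, pullbackSpecIso_inv_fst]
    rfl
  rw [← hsp]
  refine (hloc Ω s).2 (isDomain_of_finite_stages s.asIdeal fun F _ _ σ hF => ?_)
  let r : PrimeSpectrum (B ⊗[k] F) :=
    PrimeSpectrum.comap (Algebra.TensorProduct.map (AlgHom.id k B) σ).toRingHom s
  refine (hloc F r).1 ?_
  have hr : pullback.fst fB (Spec.map (CommRingCat.ofHom (algebraMap k F))) ((pullbackSpecIso k B F).inv r) = q := by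
    rw [hfst, ← hp, ← hsp, hfst]
    refine PrimeSpectrum.ext (Ideal.ext fun b => ?_)
    simp [r, Algebra.TensorProduct.algebraMap_apply]
  -- transport along the open immersion
  let sF := Spec.map (CommRingCat.ofHom (algebraMap k F))
  let mU : pullback fB sF ⟶ pullback f sF := pullback.map fB sF f sF hU.fromSpec (𝟙 _) (𝟙 _)
    (by rw [Category.comp_id, show fB = hU.fromSpec ≫ f from hφ]) (by simp)
  haveI : IsOpenImmersion mU := inferInstance
  refine (isDomain_stalk_openImmersion_iff mU _).1 (h F hF _ ?_)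
  rw [← Scheme.Hom.comp_apply, pullback.lift_fst, Scheme.Hom.comp_apply, hr]
  rfl

/-- **Generisations of geometrically pointwise integral points of fibres.** -/
theorem gpi_of_specializes (f : X ⟶ Y) [IsLocallyNoetherian X] [Flat f] [LocallyOfFinitePresentation f]
    {x₁ x₀ : X} (hs : x₁ ⤳ x₀) (h : GPI f x₀) : GPI f x₁ := by
  let y := f.base x₁
  let f₀ := f.fiberToSpecResidueField y
  haveI : LocallyOfFiniteType f₀ := MorphismProperty.pullback_snd _ _ inferInstance
  rw [← show pullback.fst f (Y.fromSpecResidueField y) (f.asFiber x₁) = x₁ from f.fiberι_asFiber x₁]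
  refine (gpi_baseChange_iff (IsPullback.of_hasPullback f (Y.fromSpecResidueField y)) (f.asFiber x₁)).1 ?_
  refine gpi_of_finite (k := (Y.residueField y : Type u)) f₀ _ fun K _ _ hK p hp => ?_
  let w : Spec (CommRingCat.of K) ⟶ Spec (CommRingCat.of (Y.residueField y : Type u)) :=
    Spec.map (CommRingCat.ofHom (algebraMap _ K))
  have sq : IsPullback (pullback.fst f₀ w ≫ f.fiberι y) (pullback.snd f₀ w) f (w ≫ Y.fromSpecResidueField y) :=
    ((IsPullback.of_hasPullback f₀ w).flip.paste_vert (IsPullback.of_hasPullback f (Y.fromSpecResidueField y)).flip).flip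
  haveI : LocallyOfFiniteType w := by
    refine (HasRingHomProperty.Spec_iff (P := @LocallyOfFiniteType)).mpr ?_
    haveI := hK
    exact RingHom.finiteType_algebraMap.2 inferInstance
  haveI : LocallyOfFiniteType (pullback.fst f₀ w) := MorphismProperty.pullback_fst _ _ inferInstance
  refine isDomain_of_specializes f sq p ?_ (x₀ := x₀) ?_ h
  · rw [Scheme.residueFieldMap_comp, CommRingCat.hom_comp]
    refine RingHom.EssFiniteType.comp ?_ ?_
    · refine (RingHom.FiniteType.of_surjective _ ?_).essFiniteType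
      intro z
      obtain ⟨z, rfl⟩ := IsLocalRing.residue_surjective z
      obtain ⟨z', rfl⟩ := (f.fiberι y).stalkMap_surjective (pullback.fst f₀ w p) z
      exact ⟨IsLocalRing.residue _ z', rfl⟩
    · have h1 := LocallyOfFiniteType.stalkMap (pullback.fst f₀ w) p
      refine RingHom.EssFiniteType.of_comp (Scheme.residue _ (pullback.fst f₀ w p)).hom ?_
      rw [← CommRingCat.hom_comp, Scheme.residue_residueFieldMap, CommRingCat.hom_comp]
      exact h1.comp (RingHom.FiniteType.of_surjective _ IsLocalRing.residue_surjective).essFiniteType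
  · rw [Scheme.Hom.comp_apply, hp, f.fiberι_asFiber]
    exact hs

end Groth.Agent.GeomPtInt
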